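import Groth.Agent.SchClosureLib.Basic
import Groth.Agent.ASp.BiratEtale
import Groth.Agent.BCLib.DVR

/-!
# Smooth projective schemes over the fraction field of a Dedekind domain have good reduction over an open
-/

set_option autoImplicit false
set_option backward.isDefEq.respectTransparency.types false
set_option backward.isDefEq.respectTransparency false
set_option linter.style.setOption false
set_option linter.style.haveILetI false
set_option linter.unusedSectionVars false

universe u

open CategoryTheory CategoryTheory.Limits AlgebraicGeometry TopologicalSpace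

noncomputable section

namespace Groth.Agent.GoodRed

theorem mem_smoothLocus_of_sq {A B C D : Scheme.{u}} (φ : A ⟶ B) (g : B ⟶ D) (f : A ⟶ C) (ψ : C ⟶ D)
    (h : φ ≫ g = f ≫ ψ) [Flat φ] [IsPreimmersion φ] [Flat ψ] [IsPreimmersion ψ] [Smooth f]
    [LocallyOfFinitePresentation g] (a : A) : φ a ∈ g.smoothLocus := by
  haveI := ASp.isIso_stalkMap_of_flat_preimmersion φ a
  haveI := ASp.isIso_stalkMap_of_flat_preimmersion ψ (f a)
  have h1 : (f.stalkMap a).hom.FormallySmooth := by
    rw [← Scheme.Hom.mem_smoothLocus, f.smoothLocus_eq_top]; trivial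
  rw [Scheme.Hom.mem_smoothLocus]
  refine (RingHom.FormallySmooth.respectsIso.cancel_right_isIso (g.stalkMap (φ a)) (φ.stalkMap a)).1 ?_
  rw [← CommRingCat.hom_comp, ← Scheme.Hom.stalkMap_comp]
  have h2 : ((f ≫ ψ).stalkMap a).hom.FormallySmooth := by
    rw [Scheme.Hom.stalkMap_comp, CommRingCat.hom_comp]
    exact (RingHom.FormallySmooth.respectsIso.cancel_left_isIso (ψ.stalkMap (f a)) (f.stalkMap a)).2 h1
  rw [Scheme.Hom.stalkMap_congr_hom _ _ h a, CommRingCat.hom_comp]
  exact (RingHom.FormallySmooth.respectsIso.cancel_left_isIso _ _).2 h2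

variable {R : Type u} [CommRing R] [IsDedekindDomain R]

theorem exists_closure (C : Over (Spec (CommRingCat.of (FractionRing R)))) (hproj : Neron.IsProjectiveOver (FractionRing R) C) :
    ∃ (H : Over (Spec (CommRingCat.of R))) (φ : C.left ⟶ H.left),
      IsProper H.hom ∧ Flat H.hom ∧ IsPullback φ C.hom H.hom (Neron.genPt R) := by
  obtain ⟨n, i, hi, hic⟩ := hproj
  haveI := hi
  haveI := SchClosureLib.mono_genPt R
  haveI := SchClosureLib.flat_genPt R
  haveI := SchClosureLib.std_genPt R
  haveI : IsProper (CohB1.ProjSpaceOver.toBase n (Spec (CommRingCat.of R))) := BCLib.isProper_toBase n _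
  let P := CohB1.ProjSpaceOver n (Spec (CommRingCat.of R))
  let tP : P ⟶ Spec (CommRingCat.of R) := CohB1.ProjSpaceOver.toBase n _
  let z := CohB1.ProjSpace.toSpec n (ULift.{u} ℤ)
  let tR := specULiftZIsTerminal.from (Spec (CommRingCat.of R))
  let tK := specULiftZIsTerminal.from (Spec (CommRingCat.of (FractionRing R)))
  let q : pullback z tK ⟶ P := pullback.lift (f := z) (g := tR) (pullback.fst z tK) (pullback.snd z tK ≫ Neron.genPt R)
    (by rw [pullback.condition, Category.assoc]; congr 1; exact specULiftZIsTerminal.hom_ext _ _)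
  have hq : IsPullback q (CohB1.ProjSpaceOver.toBase n (Spec (CommRingCat.of (FractionRing R)))) tP (Neron.genPt R) := by
    refine IsPullback.of_right (h₁₂ := pullback.fst z tR) (v₁₃ := z) (h₂₂ := tR) ?_ ?_ (IsPullback.of_hasPullback z tR)
    · rw [show q ≫ pullback.fst z tR = pullback.fst z tK from pullback.lift_fst _ _ _,
        show Neron.genPt R ≫ tR = tK from specULiftZIsTerminal.hom_ext _ _]
      exact IsPullback.of_hasPullback z tK
    · exact pullback.lift_snd _ _ _
  haveI : QuasiCompact q := MorphismProperty.of_isPullback (P := @QuasiCompact) hq.flip inferInstance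
  let f : C.left ⟶ P := i ≫ q
  haveI : QuasiCompact f := inferInstanceAs (QuasiCompact (i ≫ q))
  let H : Over (Spec (CommRingCat.of R)) := Over.mk (f.imageι ≫ tP)
  let φ : C.left ⟶ H.left := f.toImage
  haveI : IsSchemeTheoreticallyDominant φ := SchClosureLib.std_toImage f
  haveI : QuasiCompact φ := inferInstanceAs (QuasiCompact f.toImage)
  have hw : φ ≫ H.hom = C.hom ≫ Neron.genPt R := by
    show f.toImage ≫ f.imageι ≫ tP = _
    rw [Scheme.Hom.toImage_imageι_assoc, ← hic]
    show (i ≫ q) ≫ tP = _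
    rw [Category.assoc, hq.w, ← Category.assoc]
  have hflat : Flat H.hom := SchClosureLib.flat_of_dense φ C.hom hw
  haveI : IsProper H.hom := inferInstanceAs (IsProper (f.imageι ≫ tP))
  refine ⟨H, φ, inferInstance, hflat, ?_⟩
  let l : C.left ⟶ pullback H.hom (Neron.genPt R) := pullback.lift φ C.hom hw
  let jK : pullback H.hom (Neron.genPt R) ⟶ CohB1.ProjSpaceOver n (Spec (CommRingCat.of (FractionRing R))) :=
    hq.lift (pullback.fst _ _ ≫ f.imageι) (pullback.snd _ _) (by rw [Category.assoc]; exact pullback.condition)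
  have hl : l ≫ jK = i := by
    apply hq.hom_ext
    · rw [Category.assoc, IsPullback.lift_fst, pullback.lift_fst_assoc]
      exact f.toImage_imageι
    · rw [Category.assoc, IsPullback.lift_snd, pullback.lift_snd, hic]
  haveI : IsSeparated jK := by
    haveI : IsSeparated (jK ≫ CohB1.ProjSpaceOver.toBase n (Spec (CommRingCat.of (FractionRing R)))) := by
      rw [show jK ≫ CohB1.ProjSpaceOver.toBase n _ = pullback.snd _ _ from IsPullback.lift_snd _ _ _ _]
      exact MorphismProperty.pullback_snd _ _ inferInstance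
    exact IsSeparated.of_comp jK (CohB1.ProjSpaceOver.toBase n _)
  haveI : IsClosedImmersion l := by
    haveI : IsClosedImmersion (l ≫ jK) := hl ▸ inferInstance
    exact IsClosedImmersion.of_comp l jK
  haveI : IsIso l := by
    let pr := pullback.fst H.hom (Neron.genPt R)
    haveI : Mono pr := inferInstance
    haveI : Flat pr := MorphismProperty.pullback_fst _ _ inferInstance
    have hsq : IsPullback (𝟙 C.left) l φ pr := ⟨⟨by simp [l, pr]⟩, ⟨PullbackCone.IsLimit.mk _ (fun s => s.fst)
      (fun s => Category.comp_id _) (fun s => (cancel_mono pr).1 (by simp [l, pr, s.condition]))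
      (fun s m h1 _ => by simpa using h1)⟩⟩
    exact IsClosedImmersion.isIso_iff_ker_eq_bot.2 (IsSchemeTheoreticallyDominant.of_isPullback hsq).ker_eq_bot
  exact IsPullback.of_iso_pullback ⟨hw⟩ (asIso l) (by simp [l]) (by simp [l])

theorem main (C : Over (Spec (CommRingCat.of (FractionRing R)))) [Smooth C.hom]
    (hproj : Neron.IsProjectiveOver (FractionRing R) C) :
    ∃ (U : (Spec (CommRingCat.of R)).Opens) (ξ : Spec (CommRingCat.of (FractionRing R)) ⟶ (U : Scheme.{u}))
      (𝒞 : Scheme.{u}) (π : 𝒞 ⟶ (U : Scheme.{u})),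
      ξ ≫ U.ι = Neron.genPt R ∧ Smooth π ∧ IsProper π ∧
      Nonempty (Over.mk (pullback.snd π ξ) ≅ C) := by
  obtain ⟨H, φ, hp, hfl, hpb⟩ := exists_closure C hproj
  haveI := hp
  haveI := SchClosureLib.flat_genPt R
  haveI : IsPreimmersion (Neron.genPt R) := IsPreimmersion.of_isLocalization (nonZeroDivisors R)
  haveI : Flat φ := MorphismProperty.of_isPullback (P := @Flat) hpb.flip inferInstance
  haveI : IsPreimmersion φ := MorphismProperty.of_isPullback (P := @IsPreimmersion) hpb.flip inferInstance
  haveI : IsNoetherianRing (CommRingCat.of R) := inferInstanceAs (IsNoetherianRing R)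
  haveI : LocallyOfFinitePresentation H.hom := inferInstance
  let U : (Spec (CommRingCat.of R)).Opens :=
    ⟨(H.hom '' (H.hom.smoothLocus : Set H.left)ᶜ)ᶜ, (H.hom.isClosedMap _ H.hom.smoothLocus.2.isClosed_compl).isOpen_compl⟩
  have hgen : ∀ t, Neron.genPt R t ∈ U := fun t => by
    rintro ⟨y, hy, hyt⟩
    obtain ⟨a, rfl⟩ : y ∈ Set.range φ := by
      rw [show φ = hpb.isoPullback.hom ≫ pullback.fst _ _ from hpb.isoPullback_hom_fst.symm, Scheme.Hom.comp_base,
        TopCat.coe_comp, Set.range_comp, Set.range_eq_univ.2 hpb.isoPullback.hom.surjective, Set.image_univ,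
        Scheme.Pullback.range_fst]
      exact ⟨t, hyt.symm⟩
    exact hy (mem_smoothLocus_of_sq φ H.hom C.hom (Neron.genPt R) hpb.w a)
  let ξ : Spec (CommRingCat.of (FractionRing R)) ⟶ (U : Scheme.{u}) :=
    IsOpenImmersion.lift U.ι (Neron.genPt R) (by rw [Scheme.Opens.range_ι]; rintro _ ⟨t, rfl⟩; exact hgen t)
  have hξ : ξ ≫ U.ι = Neron.genPt R := IsOpenImmersion.lift_fac _ _ _
  refine ⟨U, ξ, (H.hom ⁻¹ᵁ U : H.left.Opens), H.hom ∣_ U, hξ, ?_, ?_, ?_⟩
  · rw [← Scheme.Hom.smoothLocus_eq_top_iff]
    haveI : LocallyOfFinitePresentation ((H.hom ∣_ U) ≫ U.ι) := by rw [morphismRestrict_ι]; infer_instance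
    have h : ((H.hom ∣_ U) ≫ U.ι).smoothLocus = ⊤ := by
      simp only [morphismRestrict_ι]
      rw [← Scheme.Hom.preimage_smoothLocus_eq, eq_top_iff]
      intro x _
      by_contra hx
      exact (x.2 : H.hom x.1 ∈ U) ⟨x.1, hx, rfl⟩
    rw [eq_top_iff]
    intro x _
    have hx : x ∈ ((H.hom ∣_ U) ≫ U.ι).smoothLocus := h.ge trivial
    rw [Scheme.Hom.mem_smoothLocus, Scheme.Hom.stalkMap_comp, CommRingCat.hom_comp] at hx
    exact (RingHom.FormallySmooth.respectsIso.cancel_left_isIso _ _).1 hx
  · exact MorphismProperty.of_isPullback (P := @IsProper) (isPullback_morphismRestrict H.hom U).flip inferInstance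
  · have h := (IsPullback.of_hasPullback (H.hom ∣_ U) ξ).paste_horiz (isPullback_morphismRestrict H.hom U).flip
    rw [hξ] at h
    exact ⟨Over.isoMk (h.isoIsPullback _ _ hpb) (h.isoIsPullback_hom_snd _ _ hpb)⟩

end Groth.Agent.GoodRed
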